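import Groth.Agent.SGA4h.K557.BcQPaste
import Groth.Agent.Etbc.H186.BCFlatSh
import Groth.Agent.Sga4h.H929.NPush
import Groth.Agent.Sga4h.PullInj
import Groth.Agent.Etcore.PullJoint

/-!
# Base change for `R^q f_*` of abelian étale sheaves: étale base change, étale localization
-/

set_option autoImplicit false
universe u
open CategoryTheory CategoryTheory.Limits AlgebraicGeometry Opposite

noncomputable section

namespace K301.AbLoc

open K557.BcAbs K557.BcQ Groth.Agent.Localalg.DeltaFun Groth.Agent.Sga4B Groth.Agent.EtpbcB.BCCalc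
open scoped Groth.Agent.Sga4B.EtAbInst

variable {X Y X' Y' : Scheme.{u}} {f : X ⟶ Y} {g : Y' ⟶ Y} {f' : X' ⟶ Y'} {g' : X' ⟶ X}

/-- Étale base change in all degrees. -/
theorem isIso_bq_of_etale (H : IsPullback g' f' f g) [Etale g] (q : ℕ) (F : EtCoh.Ab X) : IsIso (bq H.w q F) := by
  have hg' : Etale g' := MorphismProperty.of_isPullback (P := @Etale) H.flip inferInstance
  have h0 : ∀ F, IsIso (bq H.w 0 F) := by
    intro F
    have h1 := Groth.Agent.Sga4h.H929.NPush.isIso_baseChange0_of_etale H F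
    have h2 := toRightDerivedZero_bq H.w F
    have h3 : IsIso ((EtCoh.pull g).map ((EtCoh.push f).toRightDerivedZero.app F) ≫ bq H.w 0 F) := by
      rw [h2]
      infer_instance
    exact IsIso.of_isIso_comp_left ((EtCoh.pull g).map ((EtCoh.push f).toRightDerivedZero.app F)) _
  let Φ : DeltaHom ((chainD (EtCoh.push f)).postcomp (EtCoh.pull g))
      ((chainD (EtCoh.push f')).precomp (EtCoh.pull g')) :=
    bcHom (sqIso H.w) (EtCoh.pullPushAdj g') (EtCoh.pullPushAdj g)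
  have h1 : IsIso (Φ.app 0) := by
    have : ∀ F, IsIso ((Φ.app 0).app F) := h0
    exact NatIso.isIso_of_isIso_app _
  have h2 : ((chainD (EtCoh.push f)).postcomp (EtCoh.pull g)).Effaceable :=
    fun J _ n => (EtCoh.pull g).map_isZero (chainD_eff (EtCoh.push f) J n)
  have h3 : ((chainD (EtCoh.push f')).precomp (EtCoh.pull g')).Effaceable := fun J _ n => by
    have := Groth.Agent.Sga4h.PullInj.injective_pull g' J
    exact chainD_eff (EtCoh.push f') ((EtCoh.pull g').obj J) n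
  have h4 := Φ.isIso h2 h3 h1 q
  exact (inferInstance : IsIso ((Φ.app q).app F))

/-- Congruence in the composite morphisms. -/
lemma isIso_congr {g₂ : Y' ⟶ Y} {g₂' : X' ⟶ X}
    (w : g' ≫ f = f' ≫ g) (hg : g₂ = g) (hg' : g₂' = g') (w₂ : g₂' ≫ f = f' ≫ g₂) (q : ℕ) (F : EtCoh.Ab X)
    (i : IsIso (bq w q F)) : IsIso (bq w₂ q F) := by
  subst hg hg'
  exact i

/-- If the composite and the second base change are isomorphisms, so is the pull-back of the first. -/
lemma isIso_map_of_comp {X'' Y'' : Scheme.{u}} {f'' : X'' ⟶ Y''} {h : Y'' ⟶ Y'} {h' : X'' ⟶ X'}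
    (w₁ : g' ≫ f = f' ≫ g) (w₂ : h' ≫ f' = f'' ≫ h)
    (w : (h' ≫ g') ≫ f = f'' ≫ (h ≫ g)) (q : ℕ) (F : EtCoh.Ab X) (i : IsIso (bq w q F))
    (i₂ : IsIso (bq w₂ q ((EtCoh.pull g').obj F))) : IsIso ((EtCoh.pull h).map (bq w₁ q F)) := by
  have key := bq_paste w₁ w₂ w q F
  have i3 : IsIso ((Groth.Agent.EtpbcB.BCCalc.pullComp g h).hom.app ((EtCoh.Rpush f q).obj F)) := inferInstance
  have i4 : IsIso ((EtCoh.Rpush f'' q).map ((Groth.Agent.EtpbcB.BCCalc.pullComp g' h').hom.app F)) := inferInstance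
  have h3 : IsIso ((EtCoh.pull h).map (bq w₁ q F) ≫ bq w₂ q ((EtCoh.pull g').obj F) ≫
      (EtCoh.Rpush f'' q).map ((Groth.Agent.EtpbcB.BCCalc.pullComp g' h').hom.app F)) := by
    rw [← key]
    exact IsIso.comp_isIso' i3 i
  have h4 : IsIso (bq w₂ q ((EtCoh.pull g').obj F) ≫
      (EtCoh.Rpush f'' q).map ((Groth.Agent.EtpbcB.BCCalc.pullComp g' h').hom.app F)) := IsIso.comp_isIso' i₂ i4
  exact IsIso.of_isIso_comp_right _ (bq w₂ q ((EtCoh.pull g').obj F) ≫
      (EtCoh.Rpush f'' q).map ((Groth.Agent.EtpbcB.BCCalc.pullComp g' h').hom.app F))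

/-- Base change is étale local on the target. -/
theorem isIso_of_local {X S Y T : Scheme.{u}} (f : X ⟶ S) (g : T ⟶ S) (h : Y ⟶ X) (e : Y ⟶ T)
    (c : IsPullback e h g f) (F : EtCoh.Ab T) (q : ℕ)
    {ι : Type u} (U : ι → X.Etale) (hU : EtCoh.Covers U) (V : ι → S.Etale)
    (a : ∀ i, (U i).left ⟶ (V i).left) (ha : ∀ i, a i ≫ (V i).hom = (U i).hom ≫ f)
    (Ti Yi : ι → Scheme.{u}) (gi : ∀ i, Ti i ⟶ (V i).left) (ti : ∀ i, Ti i ⟶ T)
    (cT : ∀ i, IsPullback (ti i) (gi i) g (V i).hom)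
    (hi : ∀ i, Yi i ⟶ (U i).left) (ei : ∀ i, Yi i ⟶ Ti i) (cY : ∀ i, IsPullback (ei i) (hi i) (gi i) (a i))
    (hloc : ∀ i, IsIso (bq (cY i).w q ((EtCoh.pull (ti i)).obj F))) :
    IsIso (bq c.w q F) := by
  refine Groth.Agent.Etcore.PullJoint.isIso_of_pull (fun i => (U i).hom) hU _ fun i => ?_
  have hVi : Etale (V i).hom := (V i).prop
  have hUi : Etale (U i).hom := (U i).prop
  -- the big square
  have cBig : IsPullback (ei i ≫ ti i) (hi i) g (a i ≫ (V i).hom) := (cY i).paste_horiz (cT i)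
  have w' : (ei i ≫ ti i) ≫ g = hi i ≫ ((U i).hom ≫ f) := by rw [cBig.w, ha i]
  let y : Yi i ⟶ Y := c.lift (ei i ≫ ti i) (hi i ≫ (U i).hom) (by rw [w', Category.assoc])
  have hy1 : y ≫ e = ei i ≫ ti i := c.lift_fst _ _ _
  have hy2 : y ≫ h = hi i ≫ (U i).hom := c.lift_snd _ _ _
  have cSm : IsPullback y (hi i) h (U i).hom := by
    refine IsPullback.of_right ?_ hy2 c
    rw [hy1, ← ha i]
    exact cBig
  have i0 : IsIso (bq (cT i).w q F) := isIso_bq_of_etale (cT i) q F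
  have i1 : IsIso (bq cBig.w q F) := (isIso_bq_paste (cT i).w (cY i).w cBig.w q F inferInstance).2 (hloc i)
  have w2 : (y ≫ e) ≫ g = hi i ≫ ((U i).hom ≫ f) := by rw [hy1, w']
  have i2 : IsIso (bq w2 q F) := isIso_congr cBig.w (ha i).symm hy1 w2 q F i1
  exact isIso_map_of_comp c.w cSm.w w2 q F i2 (isIso_bq_of_etale cSm q _)

end K301.AbLoc
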