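import Groth.Agent.EtBC.K2.PasteAbs
import Groth.Agent.Etbc.H182.CommShiftCD

/-!
# The derived transformations `unitQ`, `bcD`, `compD` commute with shifts

* `commShift_unitTR`, `commShift_unitQ`: the unit of the total right derived functor `TR G`.
* `commShift_bcD`: the derived base change transformation.
* `commShift_compD`: `L ⋙ M ⟶ N` on derived categories.
-/

set_option autoImplicit false
set_option linter.unusedSectionVars false
universe w₁ w₂ w₃ w₄ v₁ v₂ v₃ v₄ u₁ u₂ u₃ u₄
open CategoryTheory CategoryTheory.Limits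

noncomputable section
namespace K301.BcShift
open Groth.Agent.Etrest Groth.Agent.Etrest.RDer3 Groth.Agent.Etrest.RDer4 Groth.Agent.Etrest.RDer5
  Groth.Agent.Etbc.H182.CommShiftCD K2.PasteAbs

section gen

variable {C D E : Type*} [Category* C] [Category* D] [Category* E] [HasShift C ℤ] [HasShift D ℤ]
  [HasShift E ℤ]

/-- The compatibility of `σ` with the shift by `a` at the object `X`. -/
def CS {S T : C ⥤ E} [S.CommShift ℤ] [T.CommShift ℤ] (σ : S ⟶ T) (a : ℤ) (X : C) : Prop :=
  (S.commShiftIso a).hom.app X ≫ (σ.app X)⟦a⟧' = σ.app (X⟦a⟧) ≫ (T.commShiftIso a).hom.app X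

theorem CS.mk' {S T : C ⥤ E} [S.CommShift ℤ] [T.CommShift ℤ] (σ : S ⟶ T) (h : ∀ a X, CS σ a X) :
    NatTrans.CommShift σ ℤ where
  shift_comm a := by
    ext X
    exact h a X

theorem CS.of {S T : C ⥤ E} [S.CommShift ℤ] [T.CommShift ℤ] (σ : S ⟶ T) [NatTrans.CommShift σ ℤ]
    (a : ℤ) (X : C) : CS σ a X := NatTrans.shift_app_comm σ a X

/-- Transport of the compatibility backwards along `f : X ⟶ Y`. -/
theorem CS.of_hom {S T : C ⥤ E} [S.CommShift ℤ] [T.CommShift ℤ] (σ : S ⟶ T) (a : ℤ) {X Y : C} (f : X ⟶ Y)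
    (hf : Mono ((T.map f)⟦a⟧')) (h : CS σ a Y) : CS σ a X := by
  unfold CS at h ⊢
  have n1 := (S.commShiftIso a).hom.naturality f
  have n2 := (T.commShiftIso a).hom.naturality f
  have n3 := σ.naturality (f⟦a⟧')
  have n4 := σ.naturality f
  dsimp only [Functor.comp_map, Functor.comp_obj] at n1 n2 n3
  rw [← cancel_mono ((T.map f)⟦a⟧'), Category.assoc, Category.assoc, ← Functor.map_comp, ← n4,
    Functor.map_comp, ← reassoc_of% n1, h, ← n2, reassoc_of% n3]

/-- Cancellation of an epimorphic transformation on the left. -/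
theorem CS.of_comp {S T U : C ⥤ E} [S.CommShift ℤ] [T.CommShift ℤ] [U.CommShift ℤ] (σ : S ⟶ T) (τ : T ⟶ U)
    (a : ℤ) (X : C) (h1 : CS σ a X) (h2 : CS (σ ≫ τ) a X) (h : Epi (σ.app (X⟦a⟧))) : CS τ a X := by
  unfold CS at h1 h2 ⊢
  rw [NatTrans.comp_app, NatTrans.comp_app, Functor.map_comp, reassoc_of% h1, Category.assoc] at h2
  exact (cancel_epi _).1 h2

theorem epi_of_CS {S T : C ⥤ E} [S.CommShift ℤ] [T.CommShift ℤ] (σ : S ⟶ T) (a : ℤ) (X : C) (h : CS σ a X)
    (hX : IsIso (σ.app X)) : IsIso (σ.app (X⟦a⟧)) := by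
  unfold CS at h
  have h1 : IsIso (σ.app (X⟦a⟧) ≫ (T.commShiftIso a).hom.app X) := by
    rw [← h]; infer_instance
  exact IsIso.of_isIso_comp_right _ ((T.commShiftIso a).hom.app X)

/-- The compatibility after precomposition with `W`. -/
theorem CS.whiskerLeft_iff (W : C ⥤ D) [W.CommShift ℤ] {S T : D ⥤ E} [S.CommShift ℤ] [T.CommShift ℤ] (σ : S ⟶ T)
    (a : ℤ) (X : C) : CS (Functor.whiskerLeft W σ) a X ↔ CS σ a (W.obj X) := by
  unfold CS
  rw [Functor.commShiftIso_comp_hom_app, Functor.commShiftIso_comp_hom_app]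
  dsimp only [Functor.whiskerLeft_app, Functor.comp_obj]
  have h2 := σ.naturality ((W.commShiftIso a).hom.app X)
  rw [Category.assoc, ← reassoc_of% h2, cancel_epi]

/-- The unit of an equivalence and shifts. -/
theorem unit_shift (e : C ≌ D) [e.functor.CommShift ℤ] [e.inverse.CommShift ℤ] [e.CommShift ℤ] (F : C ⥤ E)
    [F.CommShift ℤ] (a : ℤ) (X : C) :
    (F.commShiftIso a).hom.app X ≫ (F.map (e.unitIso.hom.app X))⟦a⟧' =
      F.map (e.unitIso.hom.app (X⟦a⟧)) ≫ ((e.functor ⋙ (e.inverse ⋙ F)).commShiftIso a).hom.app X := by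
  have h1 : NatTrans.CommShift e.unitIso.hom ℤ := inferInstanceAs (NatTrans.CommShift e.toAdjunction.unit ℤ)
  let σ : F ⟶ e.functor ⋙ e.inverse ⋙ F :=
    (Functor.leftUnitor F).inv ≫ Functor.whiskerRight e.unitIso.hom F ≫
      (Functor.associator e.functor e.inverse F).hom
  have h2 : NatTrans.CommShift σ ℤ := inferInstance
  have h3 : ∀ Y, σ.app Y = F.map (e.unitIso.hom.app Y) := fun Y => by simp [σ]
  have h4 := NatTrans.shift_app_comm σ a X
  rw [h3, h3] at h4
  exact h4

theorem comp_assoc_shift {E' : Type*} [Category* E'] [HasShift E' ℤ] (F : C ⥤ D) [F.CommShift ℤ] (G : D ⥤ E)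
    [G.CommShift ℤ] (H : E ⥤ E') [H.CommShift ℤ] (a : ℤ) (X : C) :
    (((F ⋙ G) ⋙ H).commShiftIso a).hom.app X = ((F ⋙ G ⋙ H).commShiftIso a).hom.app X := by
  simp [Functor.commShiftIso_comp_hom_app]

end gen

section unit

variable {A : Type u₁} [Category.{v₁} A] [Abelian A] [HasDerivedCategory.{w₁} A] [HasKInj A]
  {B : Type u₂} [Category.{v₂} B] [Abelian B] [HasDerivedCategory.{w₂} B] (G : A ⥤ B) [G.Additive]

theorem seven_id {C : Type*} [Category* C] {x y z w : C} {u : y ⟶ y} (f : x ⟶ y) (g : y ⟶ z) (h : z ⟶ w)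
    (hu : u = 𝟙 y) : f ≫ 𝟙 y ≫ u ≫ 𝟙 y ≫ g ≫ 𝟙 z ≫ h = f ≫ g ≫ h := by simp [hu]

/-- The total derived functor (abbreviation). -/
abbrev RR [(Kh G).HasRightDerivedFunctor (HomotopyCategory.quasiIso A (.up ℤ))] :=
  (Kh G).totalRightDerived DerivedCategory.Qh (HomotopyCategory.quasiIso A (.up ℤ))

/-- The unit of the total derived functor (abbreviation). -/
abbrev UU [(Kh G).HasRightDerivedFunctor (HomotopyCategory.quasiIso A (.up ℤ))] :
    Kh G ⟶ DerivedCategory.Qh ⋙ RR G :=
  (Kh G).totalRightDerivedUnit DerivedCategory.Qh (HomotopyCategory.quasiIso A (.up ℤ))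

theorem isIso_UU [(Kh G).HasRightDerivedFunctor (HomotopyCategory.quasiIso A (.up ℤ))] (I : (kinj A).FullSubcategory) :
    IsIso ((UU G).app ((kinj A).ι.obj I)) := by
  obtain ⟨X, hX⟩ := I
  obtain ⟨I, rfl⟩ := HomotopyCategory.quotient_obj_surjective X
  exact (Groth.Agent.S1032.result HasKInj.out (Kh G)).2 I ((CochainComplex.isKInjective_iff_rightOrthogonal I).2 hX)


theorem cancel_aux {C : Type*} [Category* C] {X Z W : C} {f g : X ⟶ Z} (c : Z ⟶ W) (hc : IsIso c)
    (h : f ≫ c = g ≫ c) : f = g := (cancel_mono c).1 h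

theorem five_id {C : Type*} [Category* C] {x y z : C} (f : x ⟶ y) (g : y ⟶ z) :
    𝟙 x ≫ f ≫ 𝟙 y ≫ 𝟙 y ≫ g = f ≫ g := by simp

theorem TRIso_hom_app [(Kh G).HasRightDerivedFunctor (HomotopyCategory.quasiIso A (.up ℤ))] (Z : DerivedCategory A) :
    (TRIso G).hom.app Z ≫ (UU G).app ((kinj A).ι.obj ((kinjEquiv A).inverse.obj Z)) =
      (RR G).map ((kinjEquiv A).counitIso.inv.app Z) := by
  have : IsIso (Functor.whiskerLeft (kinj A).ι (UU G)) := by
    rw [NatTrans.isIso_iff_isIso_app]
    exact isIso_UU G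
  have h2 : (TRIso G).hom.app Z = (RR G).map ((kinjEquiv A).counitIso.inv.app Z) ≫
      (inv (Functor.whiskerLeft (kinj A).ι (UU G))).app ((kinjEquiv A).inverse.obj Z) :=
    five_id _ _
  have h3 : (inv (Functor.whiskerLeft (kinj A).ι (UU G))).app ((kinjEquiv A).inverse.obj Z) ≫
     (UU G).app ((kinj A).ι.obj ((kinjEquiv A).inverse.obj Z)) = 𝟙 _ :=
    NatTrans.congr_app (IsIso.inv_hom_id (Functor.whiskerLeft (kinj A).ι (UU G))) ((kinjEquiv A).inverse.obj Z)
  exact (congrArg (· ≫ (UU G).app ((kinj A).ι.obj ((kinjEquiv A).inverse.obj Z))) h2).trans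
    ((Category.assoc _ _ _).trans ((congrArg ((RR G).map ((kinjEquiv A).counitIso.inv.app Z) ≫ ·) h3).trans
      (Category.comp_id _)))

/-- On K-injective complexes the unit is the unit of `kinjEquiv`. -/
theorem unitTR_app_ι (I : (kinj A).FullSubcategory) :
    (unitTR G).app ((kinj A).ι.obj I) = (Kh G).map ((kinj A).ι.map ((kinjEquiv A).unitIso.hom.app I)) := by
  have := hasRightDerivedFunctor G
  have h1 := isIso_UU G ((kinjEquiv A).inverse.obj (DerivedCategory.Qh.obj ((kinj A).ι.obj I)))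
  have h2 := TRIso_hom_app G (DerivedCategory.Qh.obj ((kinj A).ι.obj I))
  have h3 : (unitTR G).app ((kinj A).ι.obj I) = (UU G).app ((kinj A).ι.obj I) ≫
    (TRIso G).hom.app (DerivedCategory.Qh.obj ((kinj A).ι.obj I)) := rfl
  have h4 : (kinjEquiv A).counitIso.inv.app (DerivedCategory.Qh.obj ((kinj A).ι.obj I)) =
      DerivedCategory.Qh.map ((kinj A).ι.map ((kinjEquiv A).unitIso.hom.app I)) := by
    exact (kinjEquiv A).counitInv_app_functor I
  have h5 := (UU G).naturality ((kinj A).ι.map ((kinjEquiv A).unitIso.hom.app I))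
  refine cancel_aux ((UU G).app ((kinj A).ι.obj ((kinjEquiv A).inverse.obj (DerivedCategory.Qh.obj ((kinj A).ι.obj I)))))
    h1 ?_
  refine Eq.trans ?_ h5.symm
  exact (congrArg (· ≫ (UU G).app ((kinj A).ι.obj ((kinjEquiv A).inverse.obj
    (DerivedCategory.Qh.obj ((kinj A).ι.obj I))))) h3).trans ((Category.assoc _ _ _).trans
      (congrArg ((UU G).app ((kinj A).ι.obj I) ≫ ·) (h2.trans (congrArg (fun t => (RR G).map t) h4))))


theorem cs_unitTR_ι (a : ℤ) (I : (kinj A).FullSubcategory) : CS (unitTR G) a ((kinj A).ι.obj I) := by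
  rw [← CS.whiskerLeft_iff]
  have h1 := unit_shift (kinjEquiv A) ((kinj A).ι ⋙ Kh G) a I
  have h2 := comp_assoc_shift (kinj A).ι DerivedCategory.Qh (TR G) a I
  unfold CS
  refine (congrArg (fun t => (((kinj A).ι ⋙ Kh G).commShiftIso a).hom.app I ≫ t⟦a⟧')
    (unitTR_app_ι G I)).trans (h1.trans ?_)
  refine Eq.trans ?_ (congrArg (· ≫ (((kinj A).ι ⋙ DerivedCategory.Qh ⋙ TR G).commShiftIso a).hom.app I)
    (unitTR_app_ι G (I⟦a⟧)).symm)
  exact congrArg ((Kh G).map ((kinj A).ι.map ((kinjEquiv A).unitIso.hom.app (I⟦a⟧))) ≫ ·) h2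

theorem cs_unitTR (a : ℤ) (X : HomotopyCategory A (.up ℤ)) : CS (unitTR G) a X := by
  obtain ⟨K, rfl⟩ := HomotopyCategory.quotient_obj_surjective X
  obtain ⟨I, f, hI, hf⟩ := HasKInj.out K
  have h1 : IsIso ((DerivedCategory.Qh (C := A)).map ((HomotopyCategory.quotient A (.up ℤ)).map f)) :=
    RDer1.isIso_Qh_map_quotient f
  refine CS.of_hom (unitTR G) a ((HomotopyCategory.quotient A (.up ℤ)).map f) ?_
    (cs_unitTR_ι G a (mkKInj I hI))
  have h2 : IsIso ((DerivedCategory.Qh ⋙ TR G).map ((HomotopyCategory.quotient A (.up ℤ)).map f)) :=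
    inferInstanceAs (IsIso ((TR G).map (DerivedCategory.Qh.map ((HomotopyCategory.quotient A (.up ℤ)).map f))))
  infer_instance

instance commShift_unitTR : NatTrans.CommShift (unitTR G) ℤ := CS.mk' _ (cs_unitTR G)

/-- The unit on complexes, with all associators. -/
def unitQ' : G.mapHomologicalComplex (.up ℤ) ⋙ DerivedCategory.Q ⟶ DerivedCategory.Q ⋙ TR G :=
  Functor.whiskerLeft (G.mapHomologicalComplex (.up ℤ)) (DerivedCategory.quotientCompQhIso B).inv ≫
    (Functor.associator (G.mapHomologicalComplex (.up ℤ)) (HomotopyCategory.quotient B (.up ℤ))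
      DerivedCategory.Qh).inv ≫
    Functor.whiskerRight (G.mapHomotopyCategoryFactors (.up ℤ)).inv DerivedCategory.Qh ≫
    (Functor.associator (HomotopyCategory.quotient A (.up ℤ)) (G.mapHomotopyCategory (.up ℤ))
      DerivedCategory.Qh).hom ≫
    Functor.whiskerLeft (HomotopyCategory.quotient A (.up ℤ)) (unitTR G) ≫
    (Functor.associator (HomotopyCategory.quotient A (.up ℤ)) DerivedCategory.Qh (TR G)).inv ≫
      Functor.whiskerRight (DerivedCategory.quotientCompQhIso A).hom (TR G)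

instance commShift_unitQ' : NatTrans.CommShift (unitQ' G) ℤ := by
  unfold unitQ'
  infer_instance

theorem unitQ'_eq : unitQ' G = unitQ G := by
  ext K
  have h : (G.mapHomotopyCategoryFactors (.up ℤ)).inv.app K = 𝟙 _ := rfl
  refine Eq.trans ?_ (unitQ_app G K).symm
  exact seven_id _ _ _ ((congrArg (DerivedCategory.Qh).map h).trans (DerivedCategory.Qh.map_id _))

instance commShift_unitQ : NatTrans.CommShift (unitQ G) ℤ := unitQ'_eq G ▸ commShift_unitQ' G

end unit

section bcD

variable {A : Type u₁} [Category.{v₁} A] [Abelian A] [HasDerivedCategory.{w₁} A] [HasKInj A]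
  {B : Type u₂} [Category.{v₂} B] [Abelian B] [HasDerivedCategory.{w₂} B]
  {A₂ : Type u₃} [Category.{v₃} A₂] [Abelian A₂] [HasDerivedCategory.{w₃} A₂] [HasKInj A₂]
  {B₂ : Type u₄} [Category.{v₄} B₂] [Abelian B₂] [HasDerivedCategory.{w₄} B₂]
  {G : A ⥤ B} [G.Additive] {G₂ : A₂ ⥤ B₂} [G₂.Additive]
  {E : A ⥤ A₂} [E.Additive] [PreservesFiniteLimits E] [PreservesFiniteColimits E]
  {E' : B ⥤ B₂} [E'.Additive] [PreservesFiniteLimits E'] [PreservesFiniteColimits E']
  (bc : G ⋙ E' ⟶ E ⋙ G₂)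

/-- The right hand side of `bcD_fac`, with all associators. -/
def gam : (G.mapHomologicalComplex (.up ℤ) ⋙ DerivedCategory.Q) ⋙ E'.mapDerivedCategory ⟶
    DerivedCategory.Q ⋙ (E.mapDerivedCategory ⋙ TR G₂) :=
  (Functor.associator (G.mapHomologicalComplex (.up ℤ)) DerivedCategory.Q E'.mapDerivedCategory).hom ≫
    Functor.whiskerLeft (G.mapHomologicalComplex (.up ℤ)) E'.mapDerivedCategoryFactors.hom ≫
    (Functor.associator (G.mapHomologicalComplex (.up ℤ)) (E'.mapHomologicalComplex (.up ℤ))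
      DerivedCategory.Q).inv ≫
    Functor.whiskerRight (bcCx bc) DerivedCategory.Q ≫
    (Functor.associator (E.mapHomologicalComplex (.up ℤ)) (G₂.mapHomologicalComplex (.up ℤ))
      DerivedCategory.Q).hom ≫
    Functor.whiskerLeft (E.mapHomologicalComplex (.up ℤ)) (unitQ G₂) ≫
    (Functor.associator (E.mapHomologicalComplex (.up ℤ)) DerivedCategory.Q (TR G₂)).inv ≫
    Functor.whiskerRight E.mapDerivedCategoryFactors.inv (TR G₂) ≫
    (Functor.associator DerivedCategory.Q E.mapDerivedCategory (TR G₂)).hom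

instance commShift_gam : NatTrans.CommShift (gam bc) ℤ := by
  unfold gam
  infer_instance

theorem whisker_bcD : Functor.whiskerRight (unitQ G) E'.mapDerivedCategory ≫
    (Functor.associator DerivedCategory.Q (TR G) E'.mapDerivedCategory).hom ≫
      Functor.whiskerLeft DerivedCategory.Q (bcD bc) = gam bc := by
  ext K
  refine Eq.trans ?_ ((bcD_fac bc K).trans ?_)
  · simp
  · simp [gam]

theorem cs_bcD (a : ℤ) (X : DerivedCategory A) : CS (bcD bc) a X := by
  obtain ⟨K, ⟨e⟩⟩ : ∃ K : CochainComplex A ℤ, Nonempty (DerivedCategory.Q.obj K ≅ X) :=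
      ⟨_, ⟨DerivedCategory.Q.objObjPreimageIso X⟩⟩
  obtain ⟨I, f, hI, hf⟩ := HasKInj.out K
  have h0 : CS (bcD bc) a (DerivedCategory.Q.obj I) := by
    rw [← CS.whiskerLeft_iff]
    have h1 : CS (Functor.whiskerRight (unitQ G) E'.mapDerivedCategory) a I := CS.of _ _ _
    have h2 : CS (Functor.whiskerRight (unitQ G) E'.mapDerivedCategory ≫
      (Functor.associator DerivedCategory.Q (TR G) E'.mapDerivedCategory).hom ≫
      Functor.whiskerLeft DerivedCategory.Q (bcD bc)) a I := by
        rw [whisker_bcD]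
        exact CS.of _ _ _
    have h3 := isIso_unitQ_of_isKInjective G I hI
    have h4 : IsIso ((Functor.whiskerRight (unitQ G) E'.mapDerivedCategory).app I) :=
      inferInstanceAs (IsIso (E'.mapDerivedCategory.map ((unitQ G).app I)))
    have h5 := epi_of_CS _ a I h1 h4
    have h6 := CS.of_comp _ _ a I h1 h2 inferInstance
    exact CS.of_comp _ _ a I (CS.of _ _ _) h6 inferInstance
  exact CS.of_hom _ a (e.inv ≫ DerivedCategory.Q.map f) inferInstance h0

/-- The derived base change transformation commutes with shifts. -/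
instance commShift_bcD : NatTrans.CommShift (bcD bc) ℤ := CS.mk' _ (cs_bcD bc)

end bcD

section compD

variable {A : Type u₁} [Category.{v₁} A] [Abelian A] [HasDerivedCategory.{w₁} A]
  {B : Type u₂} [Category.{v₂} B] [Abelian B] [HasDerivedCategory.{w₂} B]
  {C : Type u₃} [Category.{v₃} C] [Abelian C] [HasDerivedCategory.{w₃} C]
  {L : A ⥤ B} {M : B ⥤ C} {N : A ⥤ C} [L.Additive] [M.Additive] [N.Additive]
  [PreservesFiniteLimits L] [PreservesFiniteColimits L] [PreservesFiniteLimits M] [PreservesFiniteColimits M]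
  [PreservesFiniteLimits N] [PreservesFiniteColimits N] (α : L ⋙ M ⟶ N)

instance commShift_natCx : NatTrans.CommShift (natCx α) ℤ where
  shift_comm a := by
    ext K i
    simp only [NatTrans.comp_app, Functor.whiskerRight_app, Functor.whiskerLeft_app,
      Functor.commShiftIso_comp_hom_app, HomologicalComplex.comp_f]
    dsimp
    simp
    erw [M.map_id, Category.id_comp, Category.id_comp, Category.comp_id]

/-- `compD α` on complexes, with all associators. -/
def kap : DerivedCategory.Q ⋙ (L.mapDerivedCategory ⋙ M.mapDerivedCategory) ⟶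
    DerivedCategory.Q ⋙ N.mapDerivedCategory :=
  (Functor.associator DerivedCategory.Q L.mapDerivedCategory M.mapDerivedCategory).inv ≫
    Functor.whiskerRight L.mapDerivedCategoryFactors.hom M.mapDerivedCategory ≫
    (Functor.associator (L.mapHomologicalComplex (.up ℤ)) DerivedCategory.Q M.mapDerivedCategory).hom ≫
    Functor.whiskerLeft (L.mapHomologicalComplex (.up ℤ)) M.mapDerivedCategoryFactors.hom ≫
    (Functor.associator (L.mapHomologicalComplex (.up ℤ)) (M.mapHomologicalComplex (.up ℤ))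
      DerivedCategory.Q).inv ≫
    Functor.whiskerRight (natCx α) DerivedCategory.Q ≫ N.mapDerivedCategoryFactors.inv

instance commShift_kap : NatTrans.CommShift (kap α) ℤ := by
  unfold kap
  infer_instance

theorem whiskerLeft_compD : Functor.whiskerLeft DerivedCategory.Q (compD α) = kap α := by
  ext K
  refine (compD_app α K).trans ?_
  simp [kap]

/-- `compD α` commutes with shifts. -/
instance commShift_compD : NatTrans.CommShift (compD α) ℤ := by
  have h : NatTrans.CommShift (Functor.whiskerLeft (DerivedCategory.Q (C := A)) (compD α)) ℤ := by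
    rw [whiskerLeft_compD]
    infer_instance
  exact commShift_of_precomp (DerivedCategory.Q (C := A)) (compD α) h

end compD

end K301.BcShift
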