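import Groth.Prelude.Def_EtBCD
import Groth.Agent.EtpbcB.BCCalc
import Groth.Agent.Etbc.H186.BCFlatSh
import Groth.Agent.S1325

/-!
# Base change for étale sheaves of sets: pasting, étale base change, étale localization

* `hpaste`: horizontal pasting of `EtBC.baseChange0Sh`;
* `isIso_of_etale`: base change along an étale morphism is an isomorphism;
* `isIso_of_local`: base change is étale local on the target.
-/

set_option autoImplicit false
universe u
open CategoryTheory CategoryTheory.Limits AlgebraicGeometry Opposite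

namespace K301.SetPaste

open EtDesc Groth.Agent.EtpbcB Groth.Agent.Sga4A.EtStalk
open Groth.Agent.EtpbcB.BCCalc (pr theta compIso congrIso hom_ext_bc₃ comp_left compIso_hom_left_pr
  compIso_hom_left_pr_assoc theta_hom_left_pr theta_hom_left_pr_assoc bc_map_left_pr bc_map_left_pr_assoc)
open EtCoh (bc)

variable {X Y Z : Scheme.{u}}

lemma sh_hom_ext {F G : Sh X} {a b : F ⟶ G}
    (h : ∀ U : X.Etale, a.hom.app (op U) = b.hom.app (op U)) : a = b := by
  apply Sheaf.hom_ext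
  ext U : 2
  exact h U.unop

lemma pushComp_hom_app_app (f : X ⟶ Y) (g : Z ⟶ X) (F : Sh Z) (U : Y.Etale) :
    ((pushCompSh f g).hom.app F).hom.app (op U) = F.obj.map (compIso f g U).hom.op := rfl

section square

variable {X' Y' : Scheme.{u}} {f : X ⟶ Y} {g : Y' ⟶ Y} {f' : X' ⟶ Y'} {g' : X' ⟶ X}

/-- For a commutative square, `push g' ⋙ push f ≅ push f' ⋙ push g`. -/
noncomputable def sq (w : g' ≫ f = f' ≫ g) : pushSh g' ⋙ pushSh f ≅ pushSh f' ⋙ pushSh g :=
  pushCompSh f g' ≪≫ EtBC.pushCongrSh w ≪≫ (pushCompSh g f').symm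

lemma sq_hom_app_app (w : g' ≫ f = f' ≫ g) (F : Sh X') (U : Y.Etale) :
    ((sq w).hom.app F).hom.app (op U) = F.obj.map (theta w U).hom.op := by
  simp only [sq, theta, Iso.trans_hom, Iso.symm_hom, op_comp, Functor.map_comp, NatTrans.comp_app]
  rfl

lemma baseChange0Sh_eq (w : g' ≫ f = f' ≫ g) (F : Sh X) :
    EtBC.baseChange0Sh f g f' g' w F = MateCalc.bc (adjSh g) (adjSh g') (sq w).hom F := rfl

end square

/-- `g^* f^* ≅ (g ≫ f)^*`. -/
noncomputable def pullComp (f : X ⟶ Y) (g : Z ⟶ X) : pullSh f ⋙ pullSh g ≅ pullSh (g ≫ f) :=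
  MateCalc.leftIso ((adjSh f).comp (adjSh g)) (adjSh (g ≫ f)) (pushCompSh f g)

section hpaste

variable {X' Y' X'' Y'' : Scheme.{u}} {f : X ⟶ Y} {g : Y' ⟶ Y} {f' : X' ⟶ Y'} {g' : X' ⟶ X}
  {f'' : X'' ⟶ Y''} {h : Y'' ⟶ Y'} {h' : X'' ⟶ X'}

lemma sq_hcoh (w₁ : g' ≫ f = f' ≫ g) (w₂ : h' ≫ f' = f'' ≫ h)
    (w : (h' ≫ g') ≫ f = f'' ≫ (h ≫ g)) (G : Sh X'') :
    (pushSh f).map ((pushCompSh g' h').hom.app G) ≫ (sq w).hom.app G =
      (sq w₁).hom.app ((pushSh h').obj G) ≫ (pushSh g).map ((sq w₂).hom.app G) ≫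
        (pushCompSh g h).hom.app ((pushSh f'').obj G) := by
  apply sh_hom_ext
  intro U
  have e1 : ((pushSh f).map ((pushCompSh g' h').hom.app G) ≫ (sq w).hom.app G).hom.app (op U) =
      G.obj.map ((theta w U).hom ≫ (compIso g' h' ((bc f).obj U)).hom).op := by
    rw [op_comp, Functor.map_comp, ← sq_hom_app_app w G U,
      ← pushComp_hom_app_app g' h' G ((bc f).obj U)]
    rfl
  have e2 : ((sq w₁).hom.app ((pushSh h').obj G) ≫ (pushSh g).map ((sq w₂).hom.app G) ≫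
        (pushCompSh g h).hom.app ((pushSh f'').obj G)).hom.app (op U) =
      G.obj.map ((bc f'').map (compIso g h U).hom ≫ (theta w₂ ((bc g).obj U)).hom ≫
        (bc h').map (theta w₁ U).hom).op := by
    have a1 : ((sq w₁).hom.app ((pushSh h').obj G)).hom.app (op U) =
        G.obj.map ((bc h').map (theta w₁ U).hom).op := sq_hom_app_app w₁ ((pushSh h').obj G) U
    have a2 : ((pushSh g).map ((sq w₂).hom.app G)).hom.app (op U) =
        G.obj.map ((theta w₂ ((bc g).obj U)).hom).op := sq_hom_app_app w₂ G ((bc g).obj U)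
    have a3 : ((pushCompSh g h).hom.app ((pushSh f'').obj G)).hom.app (op U) =
        G.obj.map ((bc f'').map (compIso g h U).hom).op := rfl
    rw [op_comp, op_comp, Functor.map_comp, Functor.map_comp, ← a1, ← a2, ← a3, Category.assoc]
    rfl
  rw [e1, e2]
  congr 2
  apply hom_ext_bc₃ f g' h'
  simp only [comp_left, Category.assoc, compIso_hom_left_pr_assoc, compIso_hom_left_pr,
    theta_hom_left_pr, theta_hom_left_pr_assoc, bc_map_left_pr, bc_map_left_pr_assoc]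

/-- Horizontal pasting of base change maps. -/
lemma hpaste (w₁ : g' ≫ f = f' ≫ g) (w₂ : h' ≫ f' = f'' ≫ h)
    (w : (h' ≫ g') ≫ f = f'' ≫ (h ≫ g)) (F : Sh X) :
    (pullComp g h).hom.app ((pushSh f).obj F) ≫ EtBC.baseChange0Sh f (h ≫ g) f'' (h' ≫ g') w F =
      (pullSh h).map (EtBC.baseChange0Sh f g f' g' w₁ F) ≫
        EtBC.baseChange0Sh f' h f'' h' w₂ ((pullSh g').obj F) ≫
        (pushSh f'').map ((pullComp g' h').hom.app F) :=
  MateCalc.bc_hpaste (adjSh g) (adjSh g') (sq w₁).hom (adjSh h) (adjSh h')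
    (sq w₂).hom (adjSh (h ≫ g)) (adjSh (h' ≫ g')) (sq w).hom (pushCompSh g h)
    (pushCompSh g' h') (sq_hcoh w₁ w₂ w) F

/-- The composite is an isomorphism if both factors are. -/
lemma isIso_comp (w₁ : g' ≫ f = f' ≫ g) (w₂ : h' ≫ f' = f'' ≫ h)
    (w : (h' ≫ g') ≫ f = f'' ≫ (h ≫ g)) (F : Sh X) (i₁ : IsIso (EtBC.baseChange0Sh f g f' g' w₁ F))
    (i₂ : IsIso (EtBC.baseChange0Sh f' h f'' h' w₂ ((pullSh g').obj F))) :
    IsIso (EtBC.baseChange0Sh f (h ≫ g) f'' (h' ≫ g') w F) := by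
  have key := hpaste w₁ w₂ w F
  have h3 : IsIso ((pullComp g h).hom.app ((pushSh f).obj F) ≫
      EtBC.baseChange0Sh f (h ≫ g) f'' (h' ≫ g') w F) := by
    rw [key]
    infer_instance
  exact IsIso.of_isIso_comp_left ((pullComp g h).hom.app ((pushSh f).obj F)) _

/-- If the composite and the second base change are isomorphisms, so is the pull-back of the first. -/
lemma isIso_map_of_comp (w₁ : g' ≫ f = f' ≫ g) (w₂ : h' ≫ f' = f'' ≫ h)
    (w : (h' ≫ g') ≫ f = f'' ≫ (h ≫ g)) (F : Sh X)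
    (i : IsIso (EtBC.baseChange0Sh f (h ≫ g) f'' (h' ≫ g') w F))
    (i₂ : IsIso (EtBC.baseChange0Sh f' h f'' h' w₂ ((pullSh g').obj F))) :
    IsIso ((pullSh h).map (EtBC.baseChange0Sh f g f' g' w₁ F)) := by
  have key := hpaste w₁ w₂ w F
  have h3 : IsIso ((pullSh h).map (EtBC.baseChange0Sh f g f' g' w₁ F) ≫
        EtBC.baseChange0Sh f' h f'' h' w₂ ((pullSh g').obj F) ≫
        (pushSh f'').map ((pullComp g' h').hom.app F)) := by
    rw [← key]
    infer_instance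
  exact IsIso.of_isIso_comp_right _ (EtBC.baseChange0Sh f' h f'' h' w₂ ((pullSh g').obj F) ≫
        (pushSh f'').map ((pullComp g' h').hom.app F))

end hpaste

/-- Étale base change. -/
theorem isIso_of_etale {X' Y' : Scheme.{u}} {f : X ⟶ Y} {g : Y' ⟶ Y} {f' : X' ⟶ Y'} {g' : X' ⟶ X}
    (H : IsPullback g' f' f g) [Etale g] (F : Sh X) : IsIso (EtBC.baseChange0Sh f g f' g' H.w F) := by
  refine Groth.Agent.Etbc.H186.BCFlatSh.isIso_baseChange0Sh_of_factor H F fun U y => ?_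
  have hU : Etale U.hom := U.prop
  exact ⟨U.left, U.left, 𝟙 _, 𝟙 _, U.hom ≫ g, inferInstance, ⟨y, rfl⟩, inferInstance, by simp, inferInstance,
    inferInstance, Groth.Agent.S1325.geometricallyConnected_id _⟩

/-- Conservativity. -/
theorem isIso_of_pull {ι : Type u} {W : ι → Scheme.{u}} (j : ∀ i, W i ⟶ X) (hj : ∀ x : X, ∃ i, ∃ y : W i, j i y = x)
    {A B : Sh X} (φ : A ⟶ B) (h : ∀ i, IsIso ((pullSh (j i)).map φ)) : IsIso φ := by
  refine isIso_of_stk φ fun x => ?_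
  obtain ⟨i, y, rfl⟩ := hj x
  obtain ⟨Ω, _, _, η, rfl⟩ := exists_geomPoint (W i) y
  refine ⟨Ω, inferInstance, inferInstance, η ≫ j i, rfl, ?_⟩
  have := h i
  have h1 := mapStk_bijective_of_isIso ((pullSh (j i)).map φ) η
  have e : mapStk φ (η ≫ j i) = (pullStk (j i) B η).symm ∘ mapStk ((pullSh (j i)).map φ) η ∘ pullStk (j i) A η := by
    funext σ
    rw [Function.comp_apply, Function.comp_apply, ← pullStk_mapStk, Equiv.symm_apply_apply]
  rw [e]
  exact (Equiv.bijective _).comp (h1.comp (Equiv.bijective _))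

/-- Congruence in the composite morphisms. -/
lemma isIso_congr {X' Y' : Scheme.{u}} {f : X ⟶ Y} {g g₂ : Y' ⟶ Y} {f' : X' ⟶ Y'} {g' g₂' : X' ⟶ X}
    (w : g' ≫ f = f' ≫ g) (hg : g₂ = g) (hg' : g₂' = g') (w₂ : g₂' ≫ f = f' ≫ g₂) (F : Sh X)
    (i : IsIso (EtBC.baseChange0Sh f g f' g' w F)) : IsIso (EtBC.baseChange0Sh f g₂ f' g₂' w₂ F) := by
  subst hg hg'
  exact i

/-- Base change is étale local on the target. -/
theorem isIso_of_local {X S Y T : Scheme.{u}} (f : X ⟶ S) (g : T ⟶ S) (h : Y ⟶ X) (e : Y ⟶ T)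
    (c : IsPullback e h g f) (F : Sh T)
    {ι : Type u} (U : ι → X.Etale) (hU : EtCoh.Covers U) (V : ι → S.Etale)
    (a : ∀ i, (U i).left ⟶ (V i).left) (ha : ∀ i, a i ≫ (V i).hom = (U i).hom ≫ f)
    (Ti Yi : ι → Scheme.{u}) (gi : ∀ i, Ti i ⟶ (V i).left) (ti : ∀ i, Ti i ⟶ T)
    (cT : ∀ i, IsPullback (ti i) (gi i) g (V i).hom)
    (hi : ∀ i, Yi i ⟶ (U i).left) (ei : ∀ i, Yi i ⟶ Ti i) (cY : ∀ i, IsPullback (ei i) (hi i) (gi i) (a i))
    (hloc : ∀ i, IsIso (EtBC.baseChange0Sh (gi i) (a i) (hi i) (ei i) (cY i).w ((pullSh (ti i)).obj F))) :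
    IsIso (EtBC.baseChange0Sh g f h e c.w F) := by
  refine isIso_of_pull (fun i => (U i).hom) hU _ fun i => ?_
  have hVi : Etale (V i).hom := (V i).prop
  have hUi : Etale (U i).hom := (U i).prop
  -- the big square
  have cBig : IsPullback (ei i ≫ ti i) (hi i) g (a i ≫ (V i).hom) := (cY i).paste_horiz (cT i)
  have w' : (ei i ≫ ti i) ≫ g = hi i ≫ ((U i).hom ≫ f) := by rw [cBig.w, ha i]
  let y : Yi i ⟶ Y := c.lift (ei i ≫ ti i) (hi i ≫ (U i).hom) (by rw [w', Category.assoc])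
  have hy1 : y ≫ e = ei i ≫ ti i := c.lift_fst _ _ _
  have hy2 : y ≫ h = hi i ≫ (U i).hom := c.lift_snd _ _ _
  have cSm : IsPullback y (hi i) h (U i).hom := by
    refine IsPullback.of_right ?_ hy2 c
    rw [hy1, ← ha i]
    exact cBig
  have i1 : IsIso (EtBC.baseChange0Sh g (a i ≫ (V i).hom) (hi i) (ei i ≫ ti i) cBig.w F) :=
    isIso_comp (cT i).w (cY i).w cBig.w F (isIso_of_etale (cT i) F) (hloc i)
  have w2 : (y ≫ e) ≫ g = hi i ≫ ((U i).hom ≫ f) := by rw [hy1, w']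
  have i2 : IsIso (EtBC.baseChange0Sh g ((U i).hom ≫ f) (hi i) (y ≫ e) w2 F) :=
    isIso_congr cBig.w (ha i).symm hy1 w2 F i1
  exact isIso_map_of_comp c.w cSm.w w2 F i2 (isIso_of_etale cSm _)

end K301.SetPaste
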